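import Groth.Agent.SerreCorr.Det

/-!
# The Serre correspondence
-/

set_option autoImplicit false
set_option backward.isDefEq.respectTransparency false
set_option backward.isDefEq.respectTransparency.types false
set_option linter.style.haveILetI false
set_option linter.unusedSectionVars false
set_option maxHeartbeats 1000000

universe u

open CategoryTheory CategoryTheory.Limits AlgebraicGeometry TopologicalSpace Opposite
open Groth.Agent.WeakAssLib Groth.Agent.QC
open Groth.Agent.CohFinite (tmap)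

noncomputable section

namespace Groth.Agent.SerreCorr

/-- a vector mapping a generator to a split exact sequence has a unit coordinate -/
theorem isUnit_coord_of_split {R A M Q : Type*} [CommRing R] [IsLocalRing R] [AddCommGroup A] [Module R A]
    [AddCommGroup M] [Module R M] [AddCommGroup Q] [Module R Q] [Module.Projective R Q] (f : A →ₗ[R] M)
    (g : M →ₗ[R] Q) (hf : Function.Injective f) (hg : Function.Surjective g) (hex : Function.Exact f g) (γ : A)
    (hgen : Function.Bijective fun r : R => r • γ) {ι : Type*} [Fintype ι] (c : ι → R) (w : ι → M)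
    (h : f γ = ∑ j, c j • w j) : ∃ j, IsUnit (c j) := by
  classical
  by_contra! hall
  obtain ⟨σ, hσ⟩ := Module.projective_lifting_property g LinearMap.id hg
  have hdec : ∀ j, ∃ a : R, w j = σ (g (w j)) + a • f γ := fun j => by
    obtain ⟨m, hm⟩ := (hex (w j - σ (g (w j)))).1 (by
      rw [map_sub, ← LinearMap.comp_apply g σ, hσ, LinearMap.id_apply, sub_self])
    obtain ⟨a, ha⟩ := hgen.2 m
    exact ⟨a, by rw [← map_smul, show a • γ = m from ha, hm, add_sub_cancel]⟩
  choose a ha using hdec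
  have hz : ∑ j, c j • g (w j) = 0 := by
    have := congrArg g h
    rwa [hex.apply_apply_eq_zero, map_sum, eq_comm, Finset.sum_congr rfl fun j _ => map_smul g (c j) (w j)] at this
  have hkey : f γ = (∑ j, c j * a j) • f γ := by
    conv_lhs => rw [h]
    calc ∑ j, c j • w j = ∑ j, (σ (c j • g (w j)) + (c j * a j) • f γ) :=
          Finset.sum_congr rfl fun j _ => by
            conv_lhs => rw [ha j]
            rw [smul_add, map_smul, smul_smul]
      _ = _ := by rw [Finset.sum_add_distrib, ← map_sum, hz, map_zero, zero_add, Finset.sum_smul]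
  have hu : IsUnit (1 - ∑ j, c j * a j) := by
    refine IsLocalRing.isUnit_one_sub_self_of_mem_nonunits _ fun h' => ?_
    obtain ⟨j, -, hj⟩ := IsLocalRing.exists_of_isUnit_sum h'
    exact hall j (isUnit_of_mul_isUnit_left hj)
  refine hu.ne_zero (hgen.1 ?_)
  simp only [zero_smul]
  refine hf ?_
  rw [map_smul, sub_smul, one_smul, ← hkey, sub_self, map_zero]

variable {X : Scheme.{u}}

theorem gen_bijective {L : X.Modules} {U : X.Opens} {e : Γ(L, U)} (he : TMul.IsGen e) {x : X} (hx : x ∈ U) :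
    Function.Bijective fun r : X.presheaf.stalk x => r • mgerm L hx e := by
  have hb := BlowExcBundle.isFrame_of_isGen he x hx
  refine ⟨fun r r' hr => congrFun (hb.1 (a₁ := fun _ : Fin 1 => r) (a₂ := fun _ : Fin 1 => r')
    (by simpa using hr)) 0, fun m => ?_⟩
  obtain ⟨c, hc⟩ := hb.2 m
  exact ⟨c 0, by simpa using hc⟩

theorem surjective_of_unit {L₁ L₂ : X.Modules} (φ : L₁ ⟶ L₂) {U : X.Opens} {e : Γ(L₂, U)} (he : TMul.IsGen e)
    {x : X} (hx : x ∈ U) (v : L₁.presheaf.stalk x) {c : X.presheaf.stalk x} (hc : IsUnit c)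
    (h : stalkHom φ x v = c • mgerm L₂ hx e) : Function.Surjective (stalkHom φ x) := fun y => by
  obtain ⟨r, rfl⟩ := (gen_bijective he hx).2 y
  exact ⟨(r * ↑hc.unit⁻¹) • v, by rw [stalkHom_smul, h, smul_smul, mul_assoc, IsUnit.val_inv_mul, mul_one]⟩

theorem span_germ_eq_top {G : X.Modules} (hG : Coh.IsQCoh G) {D : X.Opens} (hD : IsAffineOpen D) {x : X} (hx : x ∈ D) :
    Submodule.span (X.presheaf.stalk x) (Set.range fun y : Γ(G, D) => mgerm G hx y) = ⊤ := by
  refine eq_top_iff.2 fun θ _ => ?_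
  letI := Module.compHom (G.presheaf.stalk x) (X.presheaf.germ D x hx).hom
  obtain ⟨g, hg, hge⟩ := RefStalk.exists_loc hD hG hx
  obtain ⟨⟨s, a⟩, has⟩ := IsLocalizedModule.surj (hD.primeIdealOf ⟨x, hx⟩).asIdeal.primeCompl g θ
  have hu : IsUnit (X.presheaf.germ D x hx a.1) := WeakAssLib.isUnit_germ hD hx a.2
  obtain ⟨v, hv⟩ := hu
  have e : θ = ((v⁻¹ : (X.presheaf.stalk x)ˣ) : X.presheaf.stalk x) • mgerm G hx s := by
    rw [← hge, ← has, Submonoid.smul_def]
    show θ = ((v⁻¹ : (X.presheaf.stalk x)ˣ) : X.presheaf.stalk x) • (X.presheaf.germ D x hx a.1 • θ)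
    rw [← hv, ← smul_assoc, smul_eq_mul, Units.inv_mul, one_smul]
  rw [e]
  exact Submodule.smul_mem _ _ (Submodule.subset_span ⟨s, rfl⟩)

/-- the wedge with a section is surjective where the section is a subbundle -/
theorem surjective_wedge {S : ShortComplex X.Modules} (hS : S.ShortExact)
    (e₁ : S.X₁ ≅ Coh.structureModule X) (hE : FlatMod.IsFinLocFreeOfRank 2 S.X₂) {D : X.Modules}
    (hD : PicF.IsInvertible D) (ψ : S.X₂ ⟶ D)
    (hψ : ∀ (U : X.Opens) (_ : IsAffineOpen U) (b : Module.Basis (Fin 2) Γ(X, U) Γ(S.X₂, U)),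
      ∃ d : Γ(D, U), (∀ y : Γ(D, U), ∃ r : Γ(X, U), r • d = y) ∧
        ψ.app U (b 1) = b.repr (res S.X₂ (le_top : U ≤ ⊤) ((e₁.inv ≫ S.f).app ⊤ (1 : Γ(X, ⊤)))) 0 • d ∧
        ψ.app U (b 0) = - (b.repr (res S.X₂ (le_top : U ≤ ⊤) ((e₁.inv ≫ S.f).app ⊤ (1 : Γ(X, ⊤)))) 1 • d))
    (x : X) [Module.Free (X.presheaf.stalk x) (S.X₃.presheaf.stalk x)] :
    Function.Surjective (stalkHom ψ x) := by
  haveI := hS.mono_f
  haveI := hS.epi_g
  obtain ⟨U, hU, hxU, ⟨b⟩⟩ := CycPB.exists_basis hE x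
  obtain ⟨d, hd, hd1, hd0⟩ := hψ U hU b
  set t := res S.X₂ (le_top : U ≤ ⊤) ((e₁.inv ≫ S.f).app ⊤ (1 : Γ(X, ⊤))) with ht
  obtain ⟨V, e, hxV, he⟩ := TMul.exists_isGen hD x
  obtain ⟨W, hW, hxW, hWU⟩ := exists_isAffineOpen_mem_and_subset (X := X) (x := x) (U := U ⊓ V) ⟨hxU, hxV⟩
  have hWU' : W ≤ U := fun y hy => (hWU hy).1
  have hWV : W ≤ V := fun y hy => (hWU hy).2
  -- the wedge of the frame generates the determinant at `x`
  obtain ⟨w, hw, hxd⟩ : ∃ w : X.presheaf.stalk x, IsUnit w ∧ mgerm D hxU d = w • mgerm D hxW (res D hWV e) := by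
    haveI := LocFree.isQCoh_of_isFinLocFree (ResDesc.isFinLocFree_of_isInvertible hD)
    obtain ⟨c, hc⟩ := (gen_bijective (he.res hWV) hxW).2 (mgerm D hxU d)
    refine ⟨c, ?_, hc.symm⟩
    have hspan : mgerm D hxW (res D hWV e) ∈ Submodule.span (X.presheaf.stalk x)
        (Set.range fun y : Γ(D, U) => mgerm D hxU y) := by
      rw [show Submodule.span (X.presheaf.stalk x) (Set.range fun y : Γ(D, U) => mgerm D hxU y) = ⊤ from
        span_germ_eq_top (TMul.isQCoh_of_isInvertible hD) hU hxU]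
      trivial
    have hle : Submodule.span (X.presheaf.stalk x) (Set.range fun y : Γ(D, U) => mgerm D hxU y) ≤
        Submodule.span (X.presheaf.stalk x) {mgerm D hxU d} := by
      rw [Submodule.span_le]
      rintro _ ⟨y, rfl⟩
      obtain ⟨r, rfl⟩ := hd y
      exact Submodule.mem_span_singleton.2 ⟨_, (mgerm_smul D hxU r d).symm⟩
    obtain ⟨r, hr⟩ := Submodule.mem_span_singleton.1 (hle hspan)
    rw [← hc, smul_smul] at hr
    exact isUnit_of_mul_isUnit_right (x := r) (by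
      rw [(gen_bijective (he.res hWV) hxW).1 (a₁ := r * c) (a₂ := 1) (by simpa using hr)]
      exact isUnit_one)
  have hγ := gen_bijective (TMul.isGen_one (X := X) ⊤) (x := x) trivial
  obtain ⟨i, hi⟩ := isUnit_coord_of_split (PnEuler.stalkL (e₁.inv ≫ S.f) x) (PnEuler.stalkL S.g x)
    (WeakAssLib.stalkHom_injective (e₁.inv ≫ S.f) x)
    (fun y => by
      haveI : Epi ((DerSch.stalkFunctor X x).map S.g) := inferInstance
      exact (ModuleCat.epi_iff_surjective _).1 this y)
    (fun y => by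
      refine ⟨fun hy => ?_, ?_⟩
      · obtain ⟨m, hm⟩ := WeakAssLib.stalk_exact S hS x y hy
        refine ⟨stalkHom e₁.hom x m, ?_⟩
        change stalkHom (e₁.inv ≫ S.f) x (stalkHom e₁.hom x m) = y
        rw [← Horrocks.sh_comp, Iso.hom_inv_id_assoc, hm]
      · rintro ⟨m, rfl⟩
        change stalkHom S.g x (stalkHom (e₁.inv ≫ S.f) x m) = 0
        rw [← Horrocks.sh_comp, Category.assoc, S.zero, comp_zero, Horrocks.sh_zero])
    _ hγ (fun j => (X.presheaf.germ U x hxU).hom (b.repr t j)) (fun j => mgerm S.X₂ hxU (b j)) (by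
      change stalkHom (e₁.inv ≫ S.f) x (mgerm (Coh.structureModule X) (U := (⊤ : X.Opens)) (x := x) trivial _) = _
      rw [stalkHom_germ, ← mgerm_res S.X₂ (le_top : U ≤ ⊤) hxU, ← ht]
      conv_lhs => rw [← b.sum_repr t]
      rw [map_sum]
      exact Finset.sum_congr rfl fun j _ => mgerm_smul _ _ _ _)
  fin_cases i
  · refine surjective_of_unit ψ (he.res hWV) hxW (mgerm S.X₂ hxU (b 1)) (hi.mul hw) ?_
    rw [stalkHom_germ, hd1, mgerm_smul, hxd, smul_smul]
    rfl
  · refine surjective_of_unit ψ (he.res hWV) hxW (- mgerm S.X₂ hxU (b 0)) (hi.mul hw) ?_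
    rw [map_neg, stalkHom_germ, hd0, map_neg, neg_neg, mgerm_smul, hxd, smul_smul]
    rfl

/-- a map to a line bundle surjective off a codimension two locus is surjective -/
theorem surjective_of_off {Y : Scheme.{u}} (i : Y ⟶ X) [IsClosedImmersion i]
    (hi : RegImm.IsRegularImmersionOfCodim RegImm.Kind.regular 2 i) {M : X.Modules} (hM : PicF.IsInvertible M)
    (θ : Coh.structureModule X ⟶ M) (hoff : ∀ x, x ∉ Set.range i.base → Function.Surjective (stalkHom θ x))
    (x : X) : Function.Surjective (stalkHom θ x) := by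
  by_cases hx : x ∈ Set.range i.base
  swap
  · exact hoff x hx
  obtain ⟨z, rfl⟩ := hx
  obtain ⟨U, l, hzU, hl, -⟩ := ExtFund.exists_chart hi z
  obtain ⟨f₁, f₂, rfl⟩ := List.length_eq_two.1 hl.len
  obtain ⟨V, e, hzV, he⟩ := TMul.exists_isGen hM (i.base z)
  obtain ⟨W, hW, hzW, hWU⟩ := exists_isAffineOpen_mem_and_subset (X := X) (x := i.base z) (U := U ⊓ V) ⟨hzU, hzV⟩
  have hWU' : W ≤ U := fun y hy => (hWU hy).1
  have hWV : W ≤ V := fun y hy => (hWU hy).2
  have he' := he.res hWV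
  obtain ⟨g, hg⟩ := (he' W le_rfl).2 (θ.app W (show Γ(Coh.structureModule X, W) from (1 : Γ(X, W))))
  simp only [res_self] at hg
  have hθ : ∀ (y : X) (hy : y ∈ W), stalkHom θ y
      (mgerm (Coh.structureModule X) hy (show Γ(Coh.structureModule X, W) from (1 : Γ(X, W)))) =
      (X.presheaf.germ W y hy).hom g • mgerm M hy (res M hWV e) := fun y hy => by
    rw [stalkHom_germ, ← hg, mgerm_smul]
  have hle : ∀ f ∈ [f₁, f₂], X.basicOpen (resO X hWU' f) ≤ X.basicOpen g := fun f hf y hy => by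
    have hyW : y ∈ W := X.basicOpen_le _ hy
    have hu := (X.mem_basicOpen _ y hyW).1 hy
    have hnr : y ∉ Set.range i.base := by
      rintro ⟨z', rfl⟩
      have h0 : (i.stalkMap z').hom ((X.presheaf.germ U (i.base z') (hWU' hyW)).hom f) = 0 :=
        ((hl.cuts (i.base z') (hWU' hyW)).2 z' rfl _).2 (Ideal.subset_span (List.mem_map.2 ⟨f, hf, rfl⟩))
      refine not_isUnit_zero (M₀ := Y.presheaf.stalk z') (h0 ▸ IsUnit.map (i.stalkMap z').hom ?_)
      have e1 : (X.presheaf.germ W (i.base z') hyW).hom (resO X hWU' f) =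
          (X.presheaf.germ U (i.base z') (hWU' hyW)).hom f := X.presheaf.germ_res_apply _ _ _ _
      rwa [e1] at hu
    obtain ⟨v, hv⟩ := hoff y hnr (mgerm M hyW (res M hWV e))
    obtain ⟨r, rfl⟩ := (gen_bijective (TMul.isGen_one (X := X) W) hyW).2 v
    rw [stalkHom_smul, hθ, smul_smul] at hv
    rw [X.mem_basicOpen _ y hyW]
    refine IsUnit.of_mul_eq_one_right r ((gen_bijective he' hyW).1 ?_)
    simpa using hv
  have hpow : ∀ f ∈ [f₁, f₂], ∃ N : ℕ, g ∣ (resO X hWU' f) ^ N := fun f hf => by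
    have h1 : PrimeSpectrum.basicOpen (resO X hWU' f) ≤ PrimeSpectrum.basicOpen g := by
      rw [← hW.fromSpec_preimage_basicOpen, ← hW.fromSpec_preimage_basicOpen]
      exact fun p hp => hle f hf hp
    obtain ⟨N, hN⟩ := (PrimeSpectrum.basicOpen_le_basicOpen_iff _ _).1 h1
    exact ⟨N, Ideal.mem_span_singleton.1 hN⟩
  obtain ⟨N₁, hN₁⟩ := hpow f₁ (by simp)
  obtain ⟨N₂, hN₂⟩ := hpow f₂ (by simp)
  let φ := (X.presheaf.germ W (i.base z) hzW).hom
  have hgerm : ∀ f, φ (resO X hWU' f) = (X.presheaf.germ U (i.base z) hzU).hom f := fun f =>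
    X.presheaf.germ_res_apply _ _ _ _
  have h₁ : φ g ∣ (X.presheaf.germ U (i.base z) hzU).hom f₁ ^ (N₁ + N₂) := by
    rw [← hgerm, pow_add]
    exact dvd_mul_of_dvd_left (by simpa only [map_pow] using map_dvd φ hN₁) _
  have h₂ : φ g ∣ (X.presheaf.germ U (i.base z) hzU).hom f₂ ^ (N₁ + N₂) := by
    rw [← hgerm, pow_add]
    exact dvd_mul_of_dvd_right (by simpa only [map_pow] using map_dvd φ hN₂) _
  have hreg := hl.reg (i.base z) hzU
  simp only [List.reverse_cons, List.reverse_nil, List.nil_append, List.singleton_append, List.map_cons,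
    List.map_nil] at hreg
  exact surjective_of_unit θ he' hzW _ (isUnit_of_powers hreg h₂ h₁) (hθ _ hzW)

section Pn

variable {k : Type u} [Field k] {n : ℕ} {Y : Scheme.{u}} (i : Y ⟶ CohB1.ProjSpace n k) [IsClosedImmersion i]

/-- the determinant of a Serre bundle -/
theorem isExtPow_of_serre (hn : 1 ≤ n) (hi : RegImm.IsRegularImmersionOfCodim RegImm.Kind.regular 2 i) (c : ℤ)
    {S : ShortComplex (CohB1.ProjSpace n k).Modules} (hS : S.ShortExact) (hE : FlatMod.IsFinLocFreeOfRank 2 S.X₂)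
    (e₁ : S.X₁ ≅ Coh.structureModule (CohB1.ProjSpace n k))
    (e₃ : S.X₃ ≅ CohB1.tensorMod (ClSub.idealMod i.ker) (Twist.twistProjSpace n k c)) :
    ∃ D : (CohB1.ProjSpace n k).Modules, ExtPow.IsExtPow 2 S.X₂ D ∧ Nonempty (D ≅ Twist.twistProjSpace n k c) := by
  haveI := hS.mono_f
  haveI := hS.epi_g
  haveI : AlgebraicGeometry.IsIntegral (CohB1.ProjSpace n k) := Horrocks.isIntegral_projSpace
  haveI := CohFinite.isNoetherian_projSpace n k
  haveI : IsLocallyNoetherian Y := LocallyOfFiniteType.isLocallyNoetherian i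
  obtain ⟨D, -, hD⟩ := SGA6Ext.exists_extPow 2 S.X₂ (Nagata.isFinLocFree_of_rank' hE)
  have hDi : PicF.IsInvertible D := ExtFund.isInvertible_of_hasDet (DetDeg.hasDet_of_isExtPow hE hD)
  obtain ⟨d, ⟨θe⟩⟩ := PicPn.exists_iso_any D hDi
  refine ⟨D, hD, ?_⟩
  obtain ⟨ψ, hψ0, hψb⟩ := exists_wedge hD ((e₁.inv ≫ S.f).app ⊤ (1 : Γ(CohB1.ProjSpace n k, ⊤)))
  have hfψ : S.f ≫ ψ = 0 := by
    rw [← cancel_epi e₁.inv, comp_zero, ← Category.assoc]
    refine Scheme.Modules.hom_ext _ _ fun W => ?_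
    ext a
    obtain ⟨a, rfl⟩ : ∃ a' : Γ(CohB1.ProjSpace n k, W),
        (show Γ(Coh.structureModule (CohB1.ProjSpace n k), W) from a') = a := ⟨a, rfl⟩
    rw [TMul.app_eq_smul, ← TMul.res_val ((e₁.inv ≫ S.f) ≫ ψ) (le_top : W ≤ ⊤)]
    have h0 : TMul.val ((e₁.inv ≫ S.f) ≫ ψ) ⊤ = 0 := hψ0
    rw [h0, map_zero, smul_zero]
    rfl
  let χ : S.X₃ ⟶ D := hS.exact.desc ψ hfψ
  have hgχ : S.g ≫ χ = ψ := hS.exact.g_desc _ _
  have hc : PicF.IsInvertible (Twist.twistProjSpace n k c) := CohFinite.isInvertible_twist n k c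
  have hc' : PicF.IsInvertible (Twist.twistProjSpace n k (-c)) := CohFinite.isInvertible_twist n k (-c)
  obtain ⟨η⟩ := PnEuler.nonempty_eta (k := k) n c (-c) (by ring)
  obtain ⟨τ⟩ := TwistPairing.nonempty_twist_twist (R := k) n d (-c) (d - c) (by ring)
  let J := ClSub.idealMod i.ker
  let χ₀ : J ⟶ Twist.twistProjSpace n k (d - c) :=
    (W7Slope.untw η J).inv ≫ tmap (e₃.inv ≫ χ ≫ θe.hom) (Twist.twistProjSpace n k (-c)) ≫ τ.hom
  obtain ⟨e⟩ := ExtShX.nonempty_quotMod_iso i
  haveI : Epi (ClSub.toSubscheme i.ker) := CurveRR.epi_toSubscheme _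
  let v : Coh.structureModule (CohB1.ProjSpace n k) ⟶ (Scheme.Modules.pushforward i).obj (Coh.structureModule Y) :=
    ClSub.toSubscheme i.ker ≫ e.hom
  let eJ : kernel v ≅ J := kernelCompMono _ _
  haveI := isIso_pre_kernel i hi v (N := Twist.twistProjSpace n k (d - c)) (CohFinite.isInvertible_twist n k _)
  obtain ⟨θ, hθ⟩ := exists_extension (kernel.ι v) (eJ.hom ≫ χ₀)
  have hoff : ∀ x, x ∉ Set.range i.base → Function.Surjective (stalkHom θ x) := fun x hx => by
    have hsubsing := KFlat.subsingleton_stalk_push i (Coh.structureModule Y) hx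
    have hιs : Function.Surjective (stalkHom (kernel.ι v) x) := fun m =>
      WeakAssLib.stalk_exact _ ({ exact := ShortComplex.exact_kernel v } :
        (ShortComplex.mk (kernel.ι v) v (kernel.condition v)).ShortExact) x m (@Subsingleton.elim _ hsubsing _ _)
    let α : S.X₃ ⟶ CohB1.tensorMod (Coh.structureModule (CohB1.ProjSpace n k)) (Twist.twistProjSpace n k c) :=
      e₃.hom ≫ tmap (eJ.inv ≫ kernel.ι v) (Twist.twistProjSpace n k c)
    haveI : Mono (tmap (eJ.inv ≫ kernel.ι v) (Twist.twistProjSpace n k c)) := W7Slope.mono_tmap hc _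
    have hαb : Function.Bijective (PnEuler.stalkL α x) := by
      refine ⟨WeakAssLib.stalkHom_injective α x, fun m => ?_⟩
      have h1 : Function.Surjective (stalkHom (eJ.inv ≫ kernel.ι v) x) := fun m' => by
        obtain ⟨q, rfl⟩ := hιs m'
        exact ⟨stalkHom eJ.hom x q, by rw [← Horrocks.sh_comp, Iso.hom_inv_id_assoc]⟩
      obtain ⟨q, rfl⟩ := stalk_tmap_surjective hc _ x h1 m
      refine ⟨stalkHom e₃.inv x q, ?_⟩
      change stalkHom α x (stalkHom e₃.inv x q) = _
      rw [← Horrocks.sh_comp, Iso.inv_hom_id_assoc]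
    haveI : Module.Free ((CohB1.ProjSpace n k).presheaf.stalk x) (S.X₃.presheaf.stalk x) := by
      haveI := PnEuler.stalk_free (CurveRR.isFinLocFreeOfRank_one
        (TMul.isInvertible_tensorMod (PicLoc.isInvertible_structureModule (CohB1.ProjSpace n k)) hc)) x
      exact Module.Free.of_equiv (LinearEquiv.ofBijective _ hαb).symm
    have hψs := surjective_wedge hS e₁ hE hDi ψ hψb x
    have hχs : Function.Surjective (stalkHom (e₃.inv ≫ χ ≫ θe.hom) x) := fun m => by
      obtain ⟨q, hq⟩ := hψs (stalkHom θe.inv x m)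
      refine ⟨stalkHom e₃.hom x (stalkHom S.g x q), ?_⟩
      rw [← Horrocks.sh_comp, Iso.hom_inv_id_assoc, ← Horrocks.sh_comp, reassoc_of% hgχ, Horrocks.sh_comp, hq,
        ← Horrocks.sh_comp, Iso.inv_hom_id, Horrocks.sh_id]
    intro m
    obtain ⟨q, hq⟩ := stalk_tmap_surjective hc' _ x hχs (stalkHom τ.inv x m)
    refine ⟨stalkHom (kernel.ι v) x (stalkHom eJ.inv x (stalkHom (W7Slope.untw η J).hom x q)), ?_⟩
    rw [← Horrocks.sh_comp, hθ, ← Horrocks.sh_comp, Iso.inv_hom_id_assoc, ← Horrocks.sh_comp]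
    simp only [χ₀, Iso.hom_inv_id_assoc]
    rw [Horrocks.sh_comp, hq, ← Horrocks.sh_comp, Iso.inv_hom_id, Horrocks.sh_id]
  have hM : PicF.IsInvertible (Twist.twistProjSpace n k (d - c)) := CohFinite.isInvertible_twist n k _
  haveI : Epi θ := Horrocks.epi_of_stalk θ (surjective_of_off i hi hM θ hoff)
  haveI := QuotProj.isIso_of_epi_rank θ (CurveRR.isFinLocFreeOfRank_one (PicLoc.isInvertible_structureModule _))
    (CurveRR.isFinLocFreeOfRank_one hM)
  obtain ⟨z⟩ := PnHodge.nonempty_twist_zero_iso (n := n) (A := k)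
  have h0 : (0 : ℤ) = d - c := (PicPn.existsUnique_iso hn (Coh.structureModule (CohB1.ProjSpace n k))
    (PicLoc.isInvertible_structureModule _)).unique ⟨z.symm⟩ ⟨asIso θ⟩
  obtain rfl : d = c := by omega
  exact ⟨θe⟩

end Pn

end Groth.Agent.SerreCorr
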