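import Groth.Agent.SerreCorr.Construct
import Groth.Agent.SerrePn.Perfect
import Groth.Agent.HodgeCI.Generic
import Groth.Agent.Horrocks.Main
import Groth.Agent.CurveRR.Easy

/-!
# The Serre bundle on projective space
-/

set_option autoImplicit false
set_option backward.isDefEq.respectTransparency false
set_option backward.isDefEq.respectTransparency.types false
set_option linter.style.haveILetI false
set_option linter.unusedSectionVars false
set_option maxHeartbeats 1000000

universe u

open CategoryTheory CategoryTheory.Limits AlgebraicGeometry TopologicalSpace Opposite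
open Groth.Agent.ExtShX (R pre)

noncomputable section

namespace Groth.Agent.SerreCorr

section General

variable {X Y : Scheme.{u}} [IsLocallyNoetherian X] [IsLocallyNoetherian Y] (i : Y ⟶ X) [IsClosedImmersion i]
  (hi : RegImm.IsRegularImmersionOfCodim RegImm.Kind.regular 2 i)
  (v : Coh.structureModule X ⟶ (Scheme.Modules.pushforward i).obj (Coh.structureModule Y)) [Epi v]
  {N : X.Modules} (hN : PicF.IsInvertible N)

include hi hN in
/-- `Hom(J, N) ≅ N` -/
theorem isIso_pre_kernel : IsIso ((pre (kernel.ι v)).app N) := by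
  let S := ShortComplex.mk (kernel.ι v) v (kernel.condition v)
  have hS : S.ShortExact := { exact := ShortComplex.exact_kernel v }
  obtain ⟨e⟩ := ExtShX.nonempty_firstOne hS N fun q =>
    ExtShX.isZero_of_finLocFree (Coh.structureModule X) (ResDesc.isFinLocFree_structureModule X) q N
  haveI : Epi ((pre (kernel.ι v)).app N) :=
    Preadditive.epi_of_isZero_cokernel _ ((isZero_R_low i hi hN (q := 1) (by omega) ‹Epi v›).of_iso e.symm)
  obtain ⟨w, hm, hex⟩ := ExtShX.pre_kernel S hS.exact N
  have h0 : IsZero ((DCoh.sheafHom S.X₃).obj N) :=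
    (isZero_R_low i hi hN (q := 0) (by omega) ‹Epi v›).of_iso (ExtShX.zeroIso _ _).symm
  haveI : Mono ((pre (kernel.ι v)).app N) := hex.mono_g (h0.eq_of_src _ _)
  exact isIso_of_mono_of_epi _

include hi hN in
/-- the four-term sequence of a presentation of the ideal -/
theorem exists_four_term {P₀ : X.Modules} (hP₀ : FlatMod.IsFinLocFree P₀) (p : P₀ ⟶ kernel v) [Epi p]
    {L : Y.Modules} (hL : ExtPow.IsExtPow 2 (Omega.conormal i) L) (eL : L ≅ (Scheme.Modules.pullback i).obj N) :
    ∃ (a : N ⟶ (DCoh.sheafHom P₀).obj N) (_ : Mono a)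
      (w : a ≫ (pre (kernel.ι p)).app N = 0)
      (π : (DCoh.sheafHom (kernel p)).obj N ⟶ (Scheme.Modules.pushforward i).obj (Coh.structureModule Y)) (_ : Epi π)
      (w' : (pre (kernel.ι p)).app N ≫ π = 0),
      (ShortComplex.mk a ((pre (kernel.ι p)).app N) w).Exact ∧
      (ShortComplex.mk ((pre (kernel.ι p)).app N) π w').Exact := by
  haveI : ∀ M : X.Modules, ModSite.HasSheafHom (O := X.sheaf) M := fun M => ModSiteTensor.hasSheafHom M
  haveI : HasExt.{u} X.Modules := hasExt_of_enoughInjectives _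
  haveI : HasInjectiveResolutions (ModSite.Mod X.sheaf) := (inferInstance : HasInjectiveResolutions X.Modules)
  haveI := isIso_pre_kernel i hi v hN
  let T := ShortComplex.mk (kernel.ι p) p (kernel.condition p)
  have hT : T.ShortExact := { exact := ShortComplex.exact_kernel p }
  obtain ⟨w₀, hm, hex⟩ := ExtShX.pre_kernel T hT.exact N
  obtain ⟨h₁⟩ := ExtShX.nonempty_homDual (ResDesc.isFinLocFree_structureModule X) N
  obtain ⟨h₂⟩ := nonempty_end_iso (PicLoc.isInvertible_structureModule X)
  let η : N ≅ (DCoh.sheafHom (kernel v)).obj N :=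
    (h₁ ≪≫ PicGrp.tensorModIso (Iso.refl N) h₂ ≪≫ SecTwist.unitorR N).symm ≪≫
      asIso ((pre (kernel.ι v)).app N)
  haveI : Mono ((pre p).app N) := hm
  let a : N ⟶ (DCoh.sheafHom P₀).obj N := η.hom ≫ (pre p).app N
  have w : a ≫ (pre (kernel.ι p)).app N = 0 := by
    simp only [a, Category.assoc]
    erw [w₀, comp_zero]
  have hexa : (ShortComplex.mk a ((pre (kernel.ι p)).app N) w).Exact :=
    (ShortComplex.exact_iff_of_iso (ShortComplex.isoMk η (Iso.refl _) (Iso.refl _)
      (Category.comp_id a).symm ((Category.id_comp _).trans (Category.comp_id _).symm) :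
      ShortComplex.mk a ((pre (kernel.ι p)).app N) w ≅
        ShortComplex.mk ((pre T.g).app N) ((pre T.f).app N) w₀)).2 hex
  obtain ⟨e₁⟩ := ExtShX.nonempty_firstOne hT N fun q => ExtShX.isZero_of_finLocFree P₀ hP₀ q N
  let Sv := ShortComplex.mk (kernel.ι v) v (kernel.condition v)
  have hSv : Sv.ShortExact := { exact := ShortComplex.exact_kernel v }
  obtain ⟨e₂⟩ := ExtShX.nonempty_firstShift hSv N (fun q =>
    ExtShX.isZero_of_finLocFree (Coh.structureModule X) (ResDesc.isFinLocFree_structureModule X) q N) 0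
  obtain ⟨e₃⟩ := ExtShX.nonempty_extShIso ((Scheme.Modules.pushforward i).obj (Coh.structureModule Y)) 2 N
  obtain ⟨e₄⟩ := ExtFund.nonempty_extSh_iso hi N (TMul.isQCoh_of_isInvertible hN) hL
  obtain ⟨e₅⟩ := nonempty_end_iso (ExtFund.isInvertible_pow hi hL)
  let ec : cokernel ((pre (kernel.ι p)).app N) ≅ (Scheme.Modules.pushforward i).obj (Coh.structureModule Y) :=
    e₁.symm ≪≫ e₂.symm ≪≫ e₃.symm ≪≫ e₄ ≪≫
      (Scheme.Modules.pushforward i).mapIso ((DCoh.sheafHom L).mapIso eL.symm ≪≫ e₅)
  refine ⟨a, mono_comp _ _, w, cokernel.π _ ≫ ec.hom, epi_comp _ _, by rw [cokernel.condition_assoc, zero_comp],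
    hexa, ?_⟩
  refine (ShortComplex.exact_iff_of_iso (ShortComplex.isoMk (Iso.refl _) (Iso.refl _) ec
      ((Category.id_comp _).trans (Category.comp_id _).symm) (Category.id_comp _).symm.symm :
      ShortComplex.mk ((pre (kernel.ι p)).app N) (cokernel.π _) (cokernel.condition _) ≅
        ShortComplex.mk ((pre (kernel.ι p)).app N) (cokernel.π _ ≫ ec.hom) _)).1
    (ShortComplex.exact_cokernel ((pre (kernel.ι p)).app N))

end General

section Pn

open Groth.Agent.CohFinite (tmap)

variable {k : Type u} [Field k] {n : ℕ} {Y : Scheme.{u}} (i : Y ⟶ CohB1.ProjSpace n k) [IsClosedImmersion i]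

theorem grk_ideal (hi : RegImm.IsRegularImmersionOfCodim RegImm.Kind.regular 2 i)
    [IsIntegral (CohB1.ProjSpace n k)] [IsLocallyNoetherian Y]
    (v : Coh.structureModule (CohB1.ProjSpace n k) ⟶ (Scheme.Modules.pushforward i).obj (Coh.structureModule Y)) [Epi v] :
    W7Slope.grk (kernel v) = 1 := by
  haveI := CohFinite.isNoetherian_projSpace n k
  have hS : (ShortComplex.mk (kernel.ι v) v (kernel.condition v)).ShortExact :=
    { exact := ShortComplex.exact_kernel v }
  have hO : FlatMod.IsFinLocFreeOfRank 1 (Coh.structureModule (CohB1.ProjSpace n k)) :=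
    CurveRR.isFinLocFreeOfRank_one (PicLoc.isInvertible_structureModule _)
  have h := W7Slope.grk_add hS ⟨LocFree.isQCoh_of_isFinLocFree (Nagata.isFinLocFree_of_rank' hO),
    (Devissage.isCoh_unit _).2⟩
  rw [show W7Slope.grk (ShortComplex.mk (kernel.ι v) v (kernel.condition v)).X₂ = 1 from W7Slope.grk_of_rank hO] at h
  have hx : genericPoint (CohB1.ProjSpace n k) ∉ Set.range i.base := by
    rintro ⟨z, hz⟩
    obtain ⟨a, b, hab, ha, -, -⟩ := exists_pair i hi v z
    haveI : Subsingleton (IsLocalRing.maximalIdeal ((CohB1.ProjSpace n k).presheaf.stalk (i.base z))) := by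
      have hf : IsField ((CohB1.ProjSpace n k).presheaf.stalk (i.base z)) := by
        rw [hz]
        exact Field.toIsField (CohB1.ProjSpace n k).functionField
      rw [IsLocalRing.isField_iff_maximalIdeal_eq.1 hf]
      infer_instance
    have ha0 : a = 0 := congrArg Subtype.val
      (Subsingleton.elim (⟨a, ha⟩ : IsLocalRing.maximalIdeal _) 0)
    exact one_ne_zero ((regular_pair hab).1 1 (by rw [ha0, zero_mul]))
  have hsub : Subsingleton (((Scheme.Modules.pushforward i).obj (Coh.structureModule Y)).presheaf.stalk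
      (genericPoint (CohB1.ProjSpace n k))) := KFlat.subsingleton_stalk_push i (Coh.structureModule Y) hx
  have h0 : W7Slope.grk ((Scheme.Modules.pushforward i).obj (Coh.structureModule Y)) = 0 :=
    @Module.finrank_zero_of_subsingleton _ _ _ _ _ _ hsub
  change 1 = W7Slope.grk (kernel v) + W7Slope.grk ((Scheme.Modules.pushforward i).obj (Coh.structureModule Y)) at h
  omega

/-- the Serre correspondence, without the determinant -/
theorem exists_serre_extension (hn : 3 ≤ n) (hi : RegImm.IsRegularImmersionOfCodim RegImm.Kind.regular 2 i) (c : ℤ)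
    {L : Y.Modules} (hL : ExtPow.IsExtPow 2 (Omega.conormal i) L)
    (eL : L ≅ (Scheme.Modules.pullback i).obj (Twist.twistProjSpace n k (-c))) :
    ∃ S : ShortComplex (CohB1.ProjSpace n k).Modules, S.ShortExact ∧ FlatMod.IsFinLocFreeOfRank 2 S.X₂ ∧
      Nonempty (S.X₁ ≅ Coh.structureModule (CohB1.ProjSpace n k)) ∧
      Nonempty (S.X₃ ≅ CohB1.tensorMod (ClSub.idealMod i.ker) (Twist.twistProjSpace n k c)) := by
  haveI : AlgebraicGeometry.IsIntegral (CohB1.ProjSpace n k) := Horrocks.isIntegral_projSpace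
  haveI := CohFinite.isNoetherian_projSpace n k
  haveI : IsLocallyNoetherian Y := LocallyOfFiniteType.isLocallyNoetherian i
  obtain ⟨e⟩ := ExtShX.nonempty_quotMod_iso i
  haveI : Epi (ClSub.toSubscheme i.ker) := CurveRR.epi_toSubscheme _
  let v : Coh.structureModule (CohB1.ProjSpace n k) ⟶ (Scheme.Modules.pushforward i).obj (Coh.structureModule Y) :=
    ClSub.toSubscheme i.ker ≫ e.hom
  let eJ : kernel v ≅ ClSub.idealMod i.ker := kernelCompMono _ _
  have hN : PicF.IsInvertible (Twist.twistProjSpace n k (-c)) := CohFinite.isInvertible_twist n k (-c)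
  have hJ : Coh.IsCoh (kernel v) := CohFinite.isCoh_of_iso eJ.symm (CurveRR.isCoh_idealMod i.ker).1
  obtain ⟨m, r, p, -, hp⟩ := SerrePn.exists_presentation (kernel v) hJ 1
  haveI := hp
  let T : Fin r → (CohB1.ProjSpace n k).Modules := fun _ => SerrePn.Om k n (-(m : ℤ))
  have hP₀ : FlatMod.IsFinLocFree (∐ T) := HodgeCI.isFinLocFree_coprod T fun _ =>
    ResDesc.isFinLocFree_of_isInvertible (CohFinite.isInvertible_twist n k _)
  have hPc : Coh.IsCoh (∐ T) := SerrePn.isCoh_sum (k := k) (n := n) (fun _ : Fin r => -(m : ℤ))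
  have hP₁ : FlatMod.IsFinLocFree (kernel p) :=
    RegDual.isFinLocFree_of_free_stalk (SerrePn.isCoh_kernel' hPc hJ p) fun x => by
      haveI := RegDual.finite_stalk hPc x
      haveI : Module.Flat ((CohB1.ProjSpace n k).presheaf.stalk x) ((∐ T).presheaf.stalk x) := by
        haveI := SerrePn.projective_stalk_cover (k := k) (n := n) r m x
        exact inferInstanceAs (Module.Flat _ ((SerrePn.cover (k := k) (n := n) r m).presheaf.stalk x))
      haveI : Module.Free ((CohB1.ProjSpace n k).presheaf.stalk x) ((∐ T).presheaf.stalk x) :=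
        Module.free_of_flat_of_isLocalRing
      exact ElemMod.free_stalk_kernel p x (pdLE_kernel i hi v x)
  obtain ⟨a, ha, w, π, hπ, w', hex₁, hex₂⟩ := exists_four_term i hi v hN hP₀ p hL eL
  let A := (DCoh.sheafHom (∐ T)).obj (Twist.twistProjSpace n k (-c))
  have hA1 : Subsingleton (Coh.HH (CohB1.ProjSpace n k) A 1) := by
    obtain ⟨pr, -, -, h3⟩ := P1Split.exists_proj T
    refine CohFinite.subsingleton_of_split _ (fun t => (DCoh.sheafHom (T t)).obj (Twist.twistProjSpace n k (-c)))
      (fun t => (pre (pr t)).app _) (fun t => (pre (Sigma.ι T t)).app _) ?_ 1 fun t => ?_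
    · simp only [← NatTrans.comp_app, ← ExtShX.pre_comp]
      rw [← pre_sum_app, h3, pre_id]
      rfl
    · obtain ⟨d, ⟨θ⟩⟩ := PicPn.exists_iso_any _
        (isInvertible_hom (CohFinite.isInvertible_twist n k (-(m : ℤ))) hN)
      exact CohQC.hh_subsingleton_of_iso θ.symm 1
        (ProjCech.twist_vanish (R := k) n d 1 (fun h => by omega) (fun h => by omega))
  let g := kernel.lift π ((pre (kernel.ι p)).app _) w'
  have hgS : (ShortComplex.mk a g (by rw [← cancel_mono (kernel.ι π), Category.assoc, kernel.lift_ι, w, zero_comp])).ShortExact := by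
    haveI : Mono (ShortComplex.mk a ((pre (kernel.ι p)).app _) w).f := ha
    haveI : Epi g := hex₂.epi_kernelLift
    refine { exact := ?_ }
    rw [ShortComplex.exact_iff_exact_up_to_refinements]
    intro Z x hx
    change x ≫ g = 0 at hx
    have h1 : x ≫ (pre (kernel.ι p)).app (Twist.twistProjSpace n k (-c)) = 0 := by
      have h2 := congrArg (· ≫ kernel.ι π) hx
      simpa [g] using h2
    exact ⟨Z, 𝟙 Z, inferInstance, hex₁.lift x h1, by rw [Category.id_comp]; exact (hex₁.lift_f x h1).symm⟩
  have hI : Subsingleton (Coh.HH (CohB1.ProjSpace n k) (kernel π) 1) :=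
    BlowPn.subsingleton_hh_X₃ hgS 1 hA1 (ProjCech.twist_vanish (R := k) n (-c) 2 (fun h => by omega) (fun h => by omega))
  have hπS : (ShortComplex.mk (kernel.ι π) π (kernel.condition π)).ShortExact :=
    { exact := ShortComplex.exact_kernel π }
  obtain ⟨σ, hσ⟩ := BlowPn.exists_lift (TMul.leftUnitIso (Coh.structureModule (CohB1.ProjSpace n k)))
    (PicLoc.isInvertible_structureModule _) hπS (CohQC.hh_subsingleton_of_iso (SecTwist.unitorR _).symm 1 hI) v
  obtain ⟨S, hS, hF, ⟨e₁⟩, ⟨e₃⟩⟩ := exists_bundle (isFinLocFree_hom hP₀ hN) (isFinLocFree_hom hP₁ hN)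
    a _ w hex₁ π w' hex₂ v σ hσ
  have hFr : FlatMod.IsFinLocFreeOfRank 2 S.X₂ := by
    have h := W7Slope.rank_of_isFinLocFree (LocFree.isQCoh_of_isFinLocFree hF) hF
    have h2 := W7Slope.grk_add hS (CurveRR.isCoh_of_rank h)
    rw [W7Slope.grk_iso e₁, W7Slope.grk_iso e₃, W7Slope.grk_of_rank (CurveRR.isFinLocFreeOfRank_one hN),
      grk_ideal i hi v] at h2
    rwa [show W7Slope.grk S.X₂ = 2 by omega] at h
  have hc : PicF.IsInvertible (Twist.twistProjSpace n k c) := CohFinite.isInvertible_twist n k c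
  obtain ⟨η⟩ := PnEuler.nonempty_eta (k := k) n (-c) c (by ring)
  exact ⟨_, CohFinite.shortExact_tmap hc hS, W7Slope.rank_tensor_inv hFr hc,
    ⟨PicGrp.tensorModIso e₁ (Iso.refl _) ≪≫ η⟩, ⟨PicGrp.tensorModIso (e₃ ≪≫ eJ) (Iso.refl _)⟩⟩

end Pn

end Groth.Agent.SerreCorr
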