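import Groth.Agent.SerreCorr.Local
import Groth.Agent.ExtShX.Resolution
import Groth.Agent.ExtShX.DualTensor
import Groth.Agent.PnEuler.SplitCI
import Groth.Agent.BlowPn.Twists
import Groth.Agent.SerrePn.ExtMain
import Groth.Agent.W7Hull.InvDual
import Groth.Agent.DQCoh.PCCalc
import Groth.Agent.Nagata.ProjBundles

/-!
# The Serre construction
-/

set_option autoImplicit false
set_option backward.isDefEq.respectTransparency false
set_option backward.isDefEq.respectTransparency.types false
set_option linter.style.haveILetI false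
set_option linter.unusedSectionVars false
set_option maxHeartbeats 1000000

universe u

open CategoryTheory CategoryTheory.Limits AlgebraicGeometry TopologicalSpace Opposite
open Groth.Agent.ExtShX (R pre)

noncomputable section

namespace Groth.Agent.SerreCorr

section Pre

variable {X : Scheme.{u}}

theorem pre_id (A : X.Modules) : pre (𝟙 A) = 𝟙 (DCoh.sheafHom A) := by
  unfold ExtShX.pre
  rw [CategoryTheory.Functor.map_id, conjugateEquiv_id]

theorem pre_add_app {A B : X.Modules} (φ ψ : A ⟶ B) (N : X.Modules) :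
    (pre (φ + ψ)).app N = (pre φ).app N + (pre ψ).app N := by
  obtain ⟨g, hg⟩ := ((DCoh.sheafHomAdj B).homEquiv _ N).surjective (𝟙 _)
  rw [← Category.id_comp ((pre (φ + ψ)).app N), ← Category.id_comp ((pre φ).app N + (pre ψ).app N), ← hg,
    Preadditive.comp_add, ExtShX.homEquiv_pre, ExtShX.homEquiv_pre, ExtShX.homEquiv_pre]
  refine Eq.trans ?_ (((DCoh.sheafHomAdj A).homAddEquiv _ N).map_add _ _)
  refine congrArg ((DCoh.sheafHomAdj A).homEquiv _ N) ?_
  change _ = _ + _
  rw [← Preadditive.add_comp]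
  refine congrArg (· ≫ g) ?_
  let Y := (DCoh.sheafHom B).obj N
  let G := (DCoh.tensorBi (X := X)).flip.obj Y
  haveI : PreservesColimitsOfSize.{u, u} G := ModSiteTensor.preservesColimits_tensorBi_flip_obj X.sheaf Y
  haveI : PreservesColimitsOfSize.{0, 0} G := preservesSmallestColimits_of_preservesColimits _
  haveI := preservesBinaryBiproducts_of_preservesBinaryCoproducts G
  haveI := Functor.additive_of_preservesBinaryBiproducts G
  exact G.map_add

theorem pre_sum_app {A B : X.Modules} {ι : Type*} (s : Finset ι) (φ : ι → (A ⟶ B)) (N : X.Modules) :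
    (pre (∑ t ∈ s, φ t)).app N = ∑ t ∈ s, (pre (φ t)).app N :=
  map_sum (AddMonoidHom.mk' (fun φ : A ⟶ B => (pre φ).app N) fun a b => pre_add_app a b N) φ s

theorem isFinLocFree_hom {P N : X.Modules} (hP : FlatMod.IsFinLocFree P) (hN : PicF.IsInvertible N) :
    FlatMod.IsFinLocFree ((DCoh.sheafHom P).obj N) := by
  obtain ⟨e⟩ := ExtShX.nonempty_homDual hP N
  exact DQCoh.isFinLocFree_of_iso' e.symm (ResDesc.isFinLocFree_tensorMod (ResDesc.isFinLocFree_of_isInvertible hN)
    (DQCoh.isFinLocFree_of_iso' ((W7Hull.sheafHomIso P).app (Coh.structureModule X)).symm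
      (ResDesc.isFinLocFree_dual hP)))

theorem isInvertible_hom {L N : X.Modules} (hL : PicF.IsInvertible L) (hN : PicF.IsInvertible N) :
    PicF.IsInvertible ((DCoh.sheafHom L).obj N) := by
  obtain ⟨e⟩ := ExtShX.nonempty_homDual (ResDesc.isFinLocFree_of_isInvertible hL) N
  exact Nagata.isInvertible_of_iso' e.symm (TMul.isInvertible_tensorMod hN
    (Nagata.isInvertible_of_iso' ((W7Hull.sheafHomIso L).app (Coh.structureModule X)).symm
      (W7Hull.isInvertible_dual hL)))

/-- `Hom(L, L) ≅ O` -/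
theorem nonempty_end_iso {L : X.Modules} (hL : PicF.IsInvertible L) :
    Nonempty ((DCoh.sheafHom L).obj L ≅ Coh.structureModule X) := by
  obtain ⟨h⟩ := ExtShX.nonempty_homDual (ResDesc.isFinLocFree_of_isInvertible hL) L
  haveI := W7Hull.isIso_evDual hL
  exact ⟨h ≪≫ PicGrp.tensorModIso (Iso.refl L) ((W7Hull.sheafHomIso L).app (Coh.structureModule X)) ≪≫
    asIso (W7Hull.evDual L)⟩

end Pre

/-- the bundle from a four-term exact sequence and a lifted section -/
theorem exists_bundle {X : Scheme.{u}} [IsLocallyNoetherian X] {N A B C : X.Modules}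
    (hA : FlatMod.IsFinLocFree A) (hB : FlatMod.IsFinLocFree B)
    (a : N ⟶ A) [Mono a] (f : A ⟶ B) (w₁ : a ≫ f = 0) (h₁ : (ShortComplex.mk a f w₁).Exact)
    (π : B ⟶ C) (w₂ : f ≫ π = 0) (h₂ : (ShortComplex.mk f π w₂).Exact)
    (v : Coh.structureModule X ⟶ C) [Epi v] (σ : Coh.structureModule X ⟶ B) (hσ : σ ≫ π = v) :
    ∃ S : ShortComplex X.Modules, S.ShortExact ∧ FlatMod.IsFinLocFree S.X₂ ∧
      Nonempty (S.X₁ ≅ N) ∧ Nonempty (S.X₃ ≅ kernel v) := by
  let d : Coh.structureModule X ⊞ A ⟶ B := biprod.desc σ f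
  haveI : Epi d := by
    rw [epi_iff_surjective_up_to_refinements]
    intro T y
    obtain ⟨T', p, hp, x, hx⟩ := surjective_up_to_refinements_of_epi v (y ≫ π)
    have h3 : (p ≫ y - x ≫ σ) ≫ π = 0 := by rw [Preadditive.sub_comp, Category.assoc, Category.assoc, hσ, hx, sub_self]
    obtain ⟨T'', p', hp', z, hz⟩ := h₂.exact_up_to_refinements (p ≫ y - x ≫ σ) h3
    refine ⟨T'', p' ≫ p, epi_comp _ _, biprod.lift (p' ≫ x) z, ?_⟩
    change _ = biprod.lift _ _ ≫ biprod.desc σ f
    rw [biprod.lift_desc, Category.assoc, Category.assoc, ← (show p' ≫ (p ≫ y - x ≫ σ) = z ≫ f from hz),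
      Preadditive.comp_sub]
    abel
  let g : kernel d ⟶ kernel v := kernel.lift v (kernel.ι d ≫ biprod.fst) (by
    have h := congrArg (fun t => kernel.ι d ≫ t) (show d ≫ π = biprod.fst ≫ v by
      refine biprod.hom_ext' _ _ ?_ ?_ <;> simp [d, hσ, w₂])
    simp only [kernel.condition_assoc, zero_comp] at h
    rw [Category.assoc]
    exact h.symm)
  let a' : N ⟶ kernel d := kernel.lift d (a ≫ biprod.inr) (by simp [d, w₁])
  have w : a' ≫ g = 0 := by
    rw [← cancel_mono (kernel.ι v), Category.assoc, kernel.lift_ι, kernel.lift_ι_assoc, zero_comp]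
    simp
  have hex : (ShortComplex.mk a' g w).Exact := by
    rw [ShortComplex.exact_iff_exact_up_to_refinements]
    intro T x hx
    change x ≫ g = 0 at hx
    have h1 : (x ≫ kernel.ι d) ≫ biprod.fst = 0 := by
      have := congrArg (· ≫ kernel.ι v) hx
      simpa [g] using this
    have h2 : ((x ≫ kernel.ι d) ≫ biprod.snd) ≫ f = 0 := by
      have h := congrArg (fun t => (x ≫ kernel.ι d) ≫ t ≫ d) (biprod.total (X := Coh.structureModule X) (Y := A))
      simp only [Preadditive.add_comp, Preadditive.comp_add, Category.id_comp, Category.assoc, kernel.condition,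
        comp_zero] at h h1 ⊢
      rw [reassoc_of% h1, zero_comp, zero_add] at h
      simpa [d] using h
    refine ⟨T, 𝟙 T, inferInstance, h₁.lift _ h2, ?_⟩
    rw [Category.id_comp, ← cancel_mono (kernel.ι d), Category.assoc, kernel.lift_ι]
    have h3 : h₁.lift ((x ≫ kernel.ι d) ≫ biprod.snd) h2 ≫ a = (x ≫ kernel.ι d) ≫ biprod.snd := h₁.lift_f _ h2
    rw [← Category.assoc, h3]
    refine biprod.hom_ext _ _ ?_ ?_
    · rw [h1]; simp
    · simp
  haveI : Mono a' := mono_of_mono_fac (kernel.lift_ι d (a ≫ biprod.inr) _)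
  haveI : Epi g := by
    rw [epi_iff_surjective_up_to_refinements]
    intro T y
    have h3 : ((y ≫ kernel.ι v) ≫ σ) ≫ π = 0 := by
      rw [Category.assoc, Category.assoc, hσ, kernel.condition, comp_zero]
    obtain ⟨T', p, hp, z, hz⟩ := h₂.exact_up_to_refinements _ h3
    change _ = z ≫ f at hz
    refine ⟨T', p, hp, kernel.lift d (biprod.lift (p ≫ y ≫ kernel.ι v) (-z)) ?_, ?_⟩
    · rw [biprod.lift_desc, Preadditive.neg_comp, ← hz]
      simp only [Category.assoc, add_neg_cancel]
    · rw [← cancel_mono (kernel.ι v), Category.assoc, Category.assoc, kernel.lift_ι, kernel.lift_ι_assoc,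
        biprod.lift_fst]
  have hEA : FlatMod.IsFinLocFree (Coh.structureModule X ⊞ A) :=
    DQCoh.isFinLocFree_biprod (ResDesc.isFinLocFree_structureModule X) hA
  exact ⟨ShortComplex.mk a' g w, { exact := hex }, DCohLocus.isFinLocFree_kernel d hEA hB, ⟨Iso.refl _⟩, ⟨Iso.refl _⟩⟩

end Groth.Agent.SerreCorr
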