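import Groth.Agent.SerreCorr.Bundle
import Groth.Agent.DetDeg.Atlas
import Groth.Agent.ExtFund.SmoothDual
import Groth.Agent.KosExt.Hom
import Groth.Agent.CycPB.RelBundle
import Groth.Agent.SGA6Ext.Exists
import Groth.Agent.DQCoh.TensorUnit

/-!
# The determinant of the Serre bundle
-/

set_option autoImplicit false
set_option backward.isDefEq.respectTransparency false
set_option backward.isDefEq.respectTransparency.types false
set_option linter.style.haveILetI false
set_option linter.unusedSectionVars false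
set_option maxHeartbeats 1000000

universe u

open CategoryTheory CategoryTheory.Limits AlgebraicGeometry TopologicalSpace Opposite
open Groth.Agent.WeakAssLib Groth.Agent.QC
open Groth.Agent.CohFinite (tmap)

noncomputable section

namespace Groth.Agent.SerreCorr

variable {X : Scheme.{u}}

theorem stalk_tmap_surjective {M N L : X.Modules} (hL : PicF.IsInvertible L) (φ : M ⟶ N) (x : X)
    (h : Function.Surjective (stalkHom φ x)) : Function.Surjective (stalkHom (tmap φ L) x) := fun z => by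
  obtain ⟨W, hxW, w, rfl⟩ := (CohB1.tensorMod N L).presheaf.exists_germ_eq (x := x) z
  obtain ⟨U, l, hxU, hl⟩ := TMul.exists_isGen hL x
  obtain ⟨n, hn⟩ := (TMul.tm_bijective (M := N) hl (W ⊓ U) inf_le_right).2 (res _ inf_le_left w)
  obtain ⟨v, hv⟩ := h (mgerm N (⟨hxW, hxU⟩ : x ∈ W ⊓ U) n)
  obtain ⟨V, hxV, m, rfl⟩ := M.presheaf.exists_germ_eq (x := x) v
  have e : mgerm N hxV (φ.app V m) = mgerm N (⟨hxW, hxU⟩ : x ∈ W ⊓ U) n :=
    (stalkHom_germ φ hxV m).symm.trans hv
  obtain ⟨V', hxV', i, j, he⟩ := TopCat.Presheaf.germ_eq N.presheaf x hxV (⟨hxW, hxU⟩ : x ∈ W ⊓ U) _ _ e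
  refine ⟨mgerm (CohB1.tensorMod M L) hxV' (TMul.tm (res M i.le m) (res L (j.le.trans inf_le_right) l)), ?_⟩
  rw [stalkHom_germ, CohFinite.tmap_tm, ← app_res, show res N i.le (φ.app V m) = res N j.le n from he]
  have h1 : res (CohB1.tensorMod N L) j.le (res _ inf_le_left w) = TMul.tm (res N j.le n) (res L (j.le.trans inf_le_right) l) := by
    rw [← hn, TMul.res_tm, res_res]
  rw [← h1, res_res, mgerm_res]

section Generic

variable {R M N : Type u} [CommRing R] [AddCommGroup M] [Module R M] [AddCommGroup N] [Module R N]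
  (φ : N ≃ₗ[R] ↥(⋀[R]^2 M))

/-- wedges of a rank two free module in coordinates -/
theorem wedge_basis (b : Module.Basis (Fin 2) R M) (u v : M) :
    exteriorPower.ιMulti R 2 ![u, v] =
      (b.repr u 0 * b.repr v 1 - b.repr u 1 * b.repr v 0) • exteriorPower.ιMulti R 2 ![b 0, b 1] := by
  have key : exteriorPower.ιMulti R 2 (M := M) =
      (LinearMap.toSpanSingleton R _ (exteriorPower.ιMulti R 2 ![b 0, b 1])).compAlternatingMap b.det := by
    refine Module.Basis.ext_alternating b fun i hi => ?_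
    let σ : Equiv.Perm (Fin 2) := Equiv.ofBijective i (Finite.injective_iff_bijective.1 hi)
    have hb : (⇑b : Fin 2 → M) = ![b 0, b 1] := by funext j; fin_cases j <;> rfl
    change exteriorPower.ιMulti R 2 (b ∘ σ) = LinearMap.toSpanSingleton R _ _ (b.det (b ∘ σ))
    rw [AlternatingMap.map_perm, AlternatingMap.map_perm, Module.Basis.det_self, LinearMap.map_smul_of_tower,
      LinearMap.toSpanSingleton_apply, one_smul, ← hb]
  refine (congrArg (fun F : M [⋀^Fin 2]→ₗ[R] ↥(⋀[R]^2 M) => F ![u, v]) key).trans ?_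
  rw [LinearMap.compAlternatingMap_apply, LinearMap.toSpanSingleton_apply, Module.Basis.det_apply,
    Matrix.det_fin_two]
  simp [Module.Basis.toMatrix_apply, mul_comm]

theorem pair_update (a x : M) : (![a, x] : Fin 2 → M) = Function.update ![a, 0] 1 x := by
  funext j
  fin_cases j <;> simp

/-- the wedge with a fixed vector -/
def wlin (a : M) : M →ₗ[R] N where
  toFun v := φ.symm (exteriorPower.ιMulti R 2 ![a, v])
  map_add' v v' := by
    rw [← map_add]
    congr 1
    rw [pair_update a (v + v'), pair_update a v, pair_update a v']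
    exact (exteriorPower.ιMulti R 2).map_update_add ![a, 0] 1 v v'
  map_smul' r v := by
    rw [RingHom.id_apply, ← map_smul]
    congr 1
    rw [pair_update a (r • v), pair_update a v]
    exact (exteriorPower.ιMulti R 2).map_update_smul ![a, 0] 1 r v

theorem wlin_self (a : M) : wlin φ a a = 0 := by
  change φ.symm _ = 0
  rw [(exteriorPower.ιMulti R 2).map_eq_zero_of_eq ![a, a] (show ![a, a] 0 = ![a, a] 1 from rfl) (by decide),
    map_zero]

theorem exists_wlin_coords (b : Module.Basis (Fin 2) R M) (a : M) :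
    ∃ d : N, (∀ y, ∃ r : R, r • d = y) ∧ wlin φ a (b 1) = b.repr a 0 • d ∧ wlin φ a (b 0) = -(b.repr a 1 • d) := by
  refine ⟨φ.symm (exteriorPower.ιMulti R 2 ![b 0, b 1]), fun y => ?_, ?_, ?_⟩
  · have hy : φ y ∈ Submodule.span R (Set.range (exteriorPower.ιMulti R 2 (M := M))) := by
      rw [exteriorPower.ιMulti_span]
      trivial
    have hspan : Submodule.span R (Set.range (exteriorPower.ιMulti R 2 (M := M))) ≤
        Submodule.span R {exteriorPower.ιMulti R 2 ![b 0, b 1]} := by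
      rw [Submodule.span_le]
      rintro _ ⟨e, rfl⟩
      rw [SetLike.mem_coe, Submodule.mem_span_singleton]
      refine ⟨_, (wedge_basis b (e 0) (e 1)).symm.trans (congrArg _ ?_)⟩
      funext j
      fin_cases j <;> rfl
    obtain ⟨r, hr⟩ := Submodule.mem_span_singleton.1 (hspan hy)
    exact ⟨r, by rw [← φ.symm_apply_apply y, ← hr, map_smul]⟩
  · change φ.symm (exteriorPower.ιMulti R 2 ![a, b 1]) = _
    rw [wedge_basis b, map_smul]
    simp
  · change φ.symm (exteriorPower.ιMulti R 2 ![a, b 0]) = _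
    rw [wedge_basis b, map_smul]
    simp

end Generic

/-- the wedge with a section -/
theorem exists_wedge {E D : X.Modules} (hD : ExtPow.IsExtPow 2 E D) (s : Γ(E, ⊤)) :
    ∃ ψ : E ⟶ D, ψ.app ⊤ s = 0 ∧ ∀ (U : X.Opens) (_ : IsAffineOpen U) (b : Module.Basis (Fin 2) Γ(X, U) Γ(E, U)),
      ∃ d : Γ(D, U), (∀ y : Γ(D, U), ∃ r : Γ(X, U), r • d = y) ∧
        ψ.app U (b 1) = b.repr (res E (le_top : U ≤ ⊤) s) 0 • d ∧
        ψ.app U (b 0) = - (b.repr (res E (le_top : U ≤ ⊤) s) 1 • d) := by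
  classical
  obtain ⟨φ, hφ⟩ := hD
  let φ' : ∀ U : X.affineOpens, Γ(D, U.1) ≃ₗ[Γ(X, U.1)] ↥(⋀[Γ(X, U.1)]^2 Γ(E, U.1)) := fun U => φ U
  let ψU : ∀ U : X.affineOpens, Γ(E, U.1) →ₗ[Γ(X, U.1)] Γ(D, U.1) := fun U =>
    wlin (φ' U) (res E (le_top : U.1 ≤ ⊤) s)
  obtain ⟨ψ, hψ⟩ := KosExt.exists_hom_affine E D ψU fun U V h v => by
    refine (hφ U V h ![res E (le_top : U.1 ≤ ⊤) s, v]).trans ?_
    refine congrArg (φ' V).symm (congrArg _ ?_)
    funext j
    fin_cases j
    · exact res_res _ _ _ _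
    · rfl
  refine ⟨ψ, ?_, fun U hU b => ?_⟩
  · refine section_eq_of_locally fun x hx => ?_
    obtain ⟨U, hU, hxU, -⟩ := exists_isAffineOpen_mem_and_subset (X := X) (U := ⊤) (x := x) trivial
    refine ⟨U, le_top, hxU, ?_⟩
    rw [app_res, map_zero, hψ ⟨U, hU⟩]
    exact wlin_self _ _
  · obtain ⟨d, hd, h1, h0⟩ := exists_wlin_coords (φ' ⟨U, hU⟩) b (res E (le_top : U ≤ ⊤) s)
    exact ⟨d, hd, (hψ ⟨U, hU⟩ _).trans h1, (hψ ⟨U, hU⟩ _).trans h0⟩

/-- maps out of the ideal extend -/
theorem exists_extension {J M : X.Modules} (ι : J ⟶ Coh.structureModule X) [IsIso ((ExtShX.pre ι).app M)]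
    (χ : J ⟶ M) : ∃ θ : Coh.structureModule X ⟶ M, ι ≫ θ = χ := by
  let O := Coh.structureModule X
  let u : (DCoh.tensorBi (X := X)).flip.obj O ≅ 𝟭 X.Modules := DQCoh.tensUnitNat X
  obtain ⟨g, hg⟩ := ((DCoh.sheafHomAdj O).homEquiv O M).surjective
    ((DCoh.sheafHomAdj J).homEquiv O M (u.hom.app J ≫ χ) ≫ inv ((ExtShX.pre ι).app M))
  refine ⟨u.inv.app O ≫ g, ?_⟩
  have h := congrArg (· ≫ (ExtShX.pre ι).app M) hg
  simp only [Category.assoc, IsIso.inv_hom_id, Category.comp_id] at h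
  rw [ExtShX.homEquiv_pre] at h
  have h' := ((DCoh.sheafHomAdj J).homEquiv O M).injective h
  rw [← cancel_epi (u.hom.app J), ← h']
  have hn : u.hom.app J ≫ ι = ((DCoh.tensorBi (X := X)).flip.obj O).map ι ≫ u.hom.app O := (u.hom.naturality ι).symm
  rw [reassoc_of% hn, Iso.hom_inv_id_app_assoc]
  rfl

end Groth.Agent.SerreCorr
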