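import Groth.Agent.ExtFund.Main
import Groth.Agent.ElemMod.Kernel
import Groth.Agent.SerreReg.Basic
import Groth.Agent.ExtShX.Divisor
import Groth.Agent.ExtShX.DepthCrit
import Groth.Agent.CurveRR.Curve
import Groth.Agent.BlowExcBundle.Main
import Groth.Agent.Devissage.Core
import Groth.Agent.Horrocks.Koszul

/-!
# Codimension two regular immersions: stalks of the ideal
-/

set_option autoImplicit false
set_option backward.isDefEq.respectTransparency false
set_option backward.isDefEq.respectTransparency.types false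
set_option linter.style.haveILetI false
set_option linter.unusedSectionVars false
set_option maxHeartbeats 1000000

universe u

open CategoryTheory CategoryTheory.Limits AlgebraicGeometry TopologicalSpace Opposite
open RingTheory.Sequence
open Groth.Agent.WeakAssLib Groth.Agent.QC

noncomputable section

namespace Groth.Agent.SerreCorr

section Alg

variable {R : Type u} [CommRing R]

theorem regular_pair {a b : R} (h : IsWeaklyRegular R [a, b]) :
    (∀ x, a * x = 0 → x = 0) ∧ ∀ y, a ∣ b * y → a ∣ y := by
  rw [show [a, b] = [a] ++ [b] from rfl, isWeaklyRegular_append_iff, isWeaklyRegular_singleton_iff,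
    isWeaklyRegular_singleton_iff] at h
  refine ⟨fun x hx => h.1.right_eq_zero_of_smul (by simpa using hx), fun y hy => ?_⟩
  have hmem : ∀ z : R, z ∈ (Ideal.ofList [a]) • (⊤ : Submodule R R) ↔ a ∣ z := fun z => by
    rw [Ideal.ofList_singleton, smul_eq_mul, Ideal.mul_top, Ideal.mem_span_singleton]
  rw [← hmem]
  refine (Submodule.Quotient.mk_eq_zero _).1 (h.2.right_eq_zero_of_smul (x := Submodule.Quotient.mk y) ?_)
  rw [← Submodule.Quotient.mk_smul, Submodule.Quotient.mk_eq_zero, hmem, smul_eq_mul]
  exact hy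

/-- an ideal generated by a regular pair has projective dimension at most one -/
theorem pdLE_one_pair {a b : R} (h : IsWeaklyRegular R [a, b]) :
    SerreReg.PdLE R (Ideal.ofList [a, b]) 1 := by
  obtain ⟨ha, hb⟩ := regular_pair h
  let f : (R × R) →ₗ[R] Ideal.ofList [a, b] :=
    LinearMap.codRestrict _ ((LinearMap.mulRight R a).comp (LinearMap.fst R R R) +
      (LinearMap.mulRight R b).comp (LinearMap.snd R R R)) fun p =>
      add_mem (Ideal.mul_mem_left _ _ (Ideal.subset_span (by simp)))
        (Ideal.mul_mem_left _ _ (Ideal.subset_span (by simp)))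
  have hval : ∀ p, (f p : R) = p.1 * a + p.2 * b := fun p => rfl
  have hf : Function.Surjective f := by
    rintro ⟨x, hx⟩
    rw [Ideal.ofList_cons, Ideal.ofList_singleton, Submodule.mem_sup] at hx
    obtain ⟨u, hu, v, hv, rfl⟩ := hx
    obtain ⟨s, rfl⟩ := Ideal.mem_span_singleton'.1 hu
    obtain ⟨t, rfl⟩ := Ideal.mem_span_singleton'.1 hv
    exact ⟨(s, t), Subtype.ext (hval _)⟩
  rw [SerreReg.pdLE_succ_iff f hf, SerreReg.pdLE_zero_iff]
  let g : R →ₗ[R] LinearMap.ker f := LinearMap.toSpanSingleton R _
    ⟨(-b, a), by rw [LinearMap.mem_ker]; exact Subtype.ext (by rw [hval]; simp; ring)⟩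
  refine Module.Projective.of_equiv (LinearEquiv.ofBijective g ⟨(injective_iff_map_eq_zero g).2 fun t ht => ?_, ?_⟩)
  · have h1 := congrArg (fun z => z.1.2) ht
    exact ha t (by simpa [g, mul_comm] using h1)
  · rintro ⟨⟨s, t⟩, hst⟩
    have h1 : s * a + t * b = 0 := (hval _).symm.trans (congrArg Subtype.val (LinearMap.mem_ker.1 hst))
    obtain ⟨c, rfl⟩ := hb t ⟨-s, by linear_combination h1⟩
    have h2 : s + c * b = 0 := ha _ (by linear_combination h1)
    refine ⟨c, Subtype.ext (Prod.ext ?_ ?_)⟩
    · simp [g]; linear_combination -h2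
    · simp [g, mul_comm]

theorem regular_pow_left {a b : R} (h : IsWeaklyRegular R [a, b]) :
    ∀ (N : ℕ) (y : R), a ^ N ∣ b * y → a ^ N ∣ y := by
  obtain ⟨ha, hb⟩ := regular_pair h
  intro N
  induction N with
  | zero => simp
  | succ N ih =>
    intro y hy
    obtain ⟨y', rfl⟩ := hb y ((dvd_pow_self a N.succ_ne_zero).trans hy)
    obtain ⟨c, hc⟩ := hy
    have h1 : b * y' = a ^ N * c := sub_eq_zero.1 (ha _ (by linear_combination hc))
    obtain ⟨d, rfl⟩ := ih y' ⟨c, h1⟩
    exact ⟨d, by ring⟩

/-- no proper principal ideal contains powers of a regular pair -/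
theorem isUnit_of_powers {a b g : R} (h : IsWeaklyRegular R [a, b]) {N : ℕ} (h₁ : g ∣ a ^ N) (h₂ : g ∣ b ^ N) :
    IsUnit g := by
  obtain ⟨ha, hb⟩ := regular_pair h
  obtain ⟨u, hu⟩ := h₁
  obtain ⟨v, hv⟩ := h₂
  have hnz : ∀ (M : ℕ) (x : R), a ^ M * x = 0 → x = 0 := fun M => by
    induction M with
    | zero => simp
    | succ M ih => exact fun x hx => ih x (ha _ (by linear_combination hx))
  have h3 : a ^ N ∣ b ^ N * u := ⟨v, by
    rw [hv, hu]
    ring⟩
  have h4 : ∀ (M : ℕ) (y : R), a ^ N ∣ b ^ M * y → a ^ N ∣ y := fun M => by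
    induction M with
    | zero => simp
    | succ M ih => exact fun y hy => ih y (regular_pow_left h N _ (by rwa [pow_succ', mul_assoc] at hy))
  obtain ⟨w, rfl⟩ := h4 N u h3
  refine IsUnit.of_mul_eq_one w ?_
  have h5 := hnz N (1 - g * w) (by linear_combination hu)
  linear_combination -h5

end Alg

section Scheme

variable {X Y : Scheme.{u}} [IsLocallyNoetherian X] (i : Y ⟶ X) [IsClosedImmersion i]

/-- the germ of the unit section -/
abbrev one₁ (x : X) : (Coh.structureModule X).presheaf.stalk x :=
  mgerm (Coh.structureModule X) (U := (⊤ : X.Opens)) (x := x) trivial (1 : Γ(X, ⊤))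

theorem unit_bijective (x : X) :
    Function.Bijective (LinearMap.toSpanSingleton (X.presheaf.stalk x) _ (one₁ x)) := by
  have h : TMul.IsGen (N := Coh.structureModule X) (U := (⊤ : X.Opens)) (1 : Γ(X, ⊤)) := TMul.isGen_one ⊤
  have hb := BlowExcBundle.isFrame_of_isGen h x trivial
  refine ⟨fun r r' hr => congrFun (hb.1 (a₁ := fun _ : Fin 1 => r) (a₂ := fun _ : Fin 1 => r')
    (by simpa using hr)) 0, fun m => ?_⟩
  obtain ⟨c, hc⟩ := hb.2 m
  exact ⟨c 0, by simpa using hc⟩

variable (hi : RegImm.IsRegularImmersionOfCodim RegImm.Kind.regular 2 i)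
  (v : Coh.structureModule X ⟶ (Scheme.Modules.pushforward i).obj (Coh.structureModule Y)) [Epi v]

include hi in
/-- the kernel of the restriction on stalks is generated by a regular pair -/
theorem exists_pair (z : Y) : ∃ a b : X.presheaf.stalk (i.base z), IsWeaklyRegular (X.presheaf.stalk (i.base z)) [a, b] ∧
    a ∈ IsLocalRing.maximalIdeal _ ∧ b ∈ IsLocalRing.maximalIdeal _ ∧
    ∀ r : X.presheaf.stalk (i.base z),
      stalkHom v (i.base z) (r • one₁ (i.base z)) = 0 ↔ r ∈ Ideal.ofList [a, b] := by
  obtain ⟨U, l, hzU, hl, -⟩ := ExtFund.exists_chart hi z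
  obtain ⟨f₁, f₂, rfl⟩ := List.length_eq_two.1 hl.len
  let φ := (X.presheaf.germ U (i.base z) hzU).hom
  have hcut : ∀ r, (i.stalkMap z).hom r = 0 ↔ r ∈ Ideal.ofList [φ f₂, φ f₁] := fun r => by
    rw [show Ideal.ofList [φ f₂, φ f₁] = Ideal.ofList ([f₁, f₂].map φ) by
      rw [List.map_cons, List.map_cons, List.map_nil, Ideal.ofList_cons, Ideal.ofList_singleton, Ideal.ofList_cons,
        Ideal.ofList_singleton, sup_comm]]
    exact (hl.cuts (i.base z) hzU).2 z rfl r
  have hm : ∀ f, f ∈ Ideal.ofList [φ f₂, φ f₁] → f ∈ IsLocalRing.maximalIdeal _ := fun f hf => by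
    rw [IsLocalRing.mem_maximalIdeal, mem_nonunits_iff]
    intro hu
    exact not_isUnit_zero ((hcut f).2 hf ▸ hu.map (i.stalkMap z).hom)
  have hreg := hl.reg (i.base z) hzU
  simp only [List.reverse_cons, List.reverse_nil, List.nil_append, List.singleton_append, List.map_cons,
    List.map_nil] at hreg
  refine ⟨φ f₂, φ f₁, hreg, hm _ (Ideal.subset_span (by simp)), hm _ (Ideal.subset_span (by simp)), fun r => ?_⟩
  rw [← hcut, stalkHom_smul]
  have hw : ∃ m : Y.presheaf.stalk z, m • KFlat.pushStalk i z _ (stalkHom v (i.base z) (one₁ (i.base z))) =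
      mgerm (Coh.structureModule Y) (U := (⊤ : Y.Opens)) (x := z) trivial (1 : Γ(Y, ⊤)) := by
    haveI : Epi ((DerSch.stalkFunctor X (i.base z)).map v) := inferInstance
    have hs : Function.Surjective ((DerSch.stalkFunctor X (i.base z)).map v).hom :=
      (ModuleCat.epi_iff_surjective _).1 inferInstance
    obtain ⟨q, hq⟩ := (KFlat.pushStalk_bijective i z (Coh.structureModule Y)).2
      (mgerm (Coh.structureModule Y) (U := (⊤ : Y.Opens)) (x := z) trivial (1 : Γ(Y, ⊤)))
    obtain ⟨p, hp⟩ := hs q
    obtain ⟨c, rfl⟩ := (unit_bijective (i.base z)).2 p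
    refine ⟨(i.stalkMap z).hom c, ?_⟩
    rw [← hq, ← hp]
    refine ((KFlat.pushStalk_smul i z _ c _).symm).trans (congrArg (KFlat.pushStalk i z _) ?_)
    exact (stalkHom_smul v (i.base z) c (one₁ (i.base z))).symm
  obtain ⟨m, hm'⟩ := hw
  have key : ∀ s : Y.presheaf.stalk z, s • KFlat.pushStalk i z _ (stalkHom v (i.base z) (one₁ (i.base z))) = 0 → s = 0 :=
    fun s hs => by
    have h1 : s • mgerm (Coh.structureModule Y) (U := (⊤ : Y.Opens)) (x := z) trivial (1 : Γ(Y, ⊤)) = 0 := by
      rw [← hm', smul_comm, hs, smul_zero]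
    exact congrFun ((BlowExcBundle.isFrame_of_isGen (TMul.isGen_one (X := Y) ⊤) z trivial).1
      (a₁ := fun _ : Fin 1 => s) (a₂ := 0) (by simpa using h1)) 0
  constructor
  · intro h
    refine key _ ?_
    exact (KFlat.pushStalk_smul i z _ r _).symm.trans ((congrArg _ h).trans (map_zero _))
  · intro h
    apply (KFlat.pushStalk_bijective i z (Coh.structureModule Y)).1
    refine (KFlat.pushStalk_smul i z _ r _).trans ?_
    rw [h, zero_smul]
    exact (map_zero _).symm

include hi in
theorem pdLE_kernel (x : X) : SerreReg.PdLE (X.presheaf.stalk x) ((kernel v).presheaf.stalk x) 1 := by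
  let ι : (kernel v).presheaf.stalk x →ₗ[X.presheaf.stalk x] (Coh.structureModule X).presheaf.stalk x :=
    ((DerSch.stalkFunctor X x).map (kernel.ι v)).hom
  let φ : (Coh.structureModule X).presheaf.stalk x →ₗ[X.presheaf.stalk x]
      ((Scheme.Modules.pushforward i).obj (Coh.structureModule Y)).presheaf.stalk x :=
    ((DerSch.stalkFunctor X x).map v).hom
  have hS : (ShortComplex.mk (kernel.ι v) v (kernel.condition v)).ShortExact :=
    { exact := ShortComplex.exact_kernel v }
  have h := hS.map_of_exact (DerSch.stalkFunctor X x)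
  have hι : Function.Injective ι := (ModuleCat.mono_iff_injective _).1 h.mono_f
  have hex : Function.Exact ι φ := (ShortComplex.ShortExact.moduleCat_exact_iff_function_exact _).1 h.exact
  let u := LinearEquiv.ofBijective _ (unit_bijective (X := X) x)
  refine SerreReg.pdLE_of_equiv (((LinearEquiv.ofInjective ι hι).trans
    (LinearEquiv.ofEq _ _ (LinearMap.exact_iff.1 hex).symm)).symm) ?_
  have hker : LinearMap.ker φ = (LinearMap.ker (φ.comp u.toLinearMap)).map u.toLinearMap := by
    rw [LinearMap.ker_comp, Submodule.map_comap_eq_of_surjective u.surjective]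
  rw [hker]
  refine SerreReg.pdLE_of_equiv (u.submoduleMap (LinearMap.ker (φ.comp u.toLinearMap))) ?_
  by_cases hx : x ∈ Set.range i.base
  · obtain ⟨z, rfl⟩ := hx
    obtain ⟨a, b, hab, -, -, hr⟩ := exists_pair i hi v z
    have : LinearMap.ker (φ.comp u.toLinearMap) = Ideal.ofList [a, b] := by
      ext r
      refine Iff.trans ?_ (hr r)
      rw [LinearMap.mem_ker]
      exact Iff.rfl
    rw [this]
    exact pdLE_one_pair hab
  · have hsub := KFlat.subsingleton_stalk_push i (Coh.structureModule Y) hx
    have : LinearMap.ker (φ.comp u.toLinearMap) = ⊤ := by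
      ext r
      simp only [Submodule.mem_top, iff_true, LinearMap.mem_ker]
      exact @Subsingleton.elim _ hsub _ _
    rw [this]
    exact SerreReg.pdLE_mono (Nat.zero_le 1) ((SerreReg.pdLE_zero_iff _).2 (Module.Projective.of_equiv Submodule.topEquiv.symm))

omit [Epi v] in
include hi in
/-- low Ext sheaves of the structure sheaf vanish -/
theorem isZero_R_low [IsLocallyNoetherian Y] {N : X.Modules} (hN : PicF.IsInvertible N) {q : ℕ} (hq : q < 2)
    {v' : Coh.structureModule X ⟶ (Scheme.Modules.pushforward i).obj (Coh.structureModule Y)} (hv : Epi v') :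
    IsZero ((ExtShX.R ((Scheme.Modules.pushforward i).obj (Coh.structureModule Y)) q).obj N) := by
  haveI := hv
  let G := (Scheme.Modules.pushforward i).obj (Coh.structureModule Y)
  have hG : Coh.IsCoh G := by
    haveI : (Coh.structureModule Y).IsQuasicoherent := QC.isQCoh_unit _
    exact QC.isCoh_pushforward_of_isFinite i (Devissage.isCoh_unit _).2
  refine W7Baer.isZero_of_stalks (X := X) _ fun x => ?_
  obtain ⟨e⟩ := ExtShX.nonempty_stalk_R G hG x q N
  haveI : Subsingleton (Abelian.Ext ((DerSch.stalkFunctor X x).obj G) ((DerSch.stalkFunctor X x).obj N) q) := by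
    by_cases hx : x ∈ Set.range i.base
    · obtain ⟨z, rfl⟩ := hx
      obtain ⟨a, b, hab, -, -, hr⟩ := exists_pair i hi v' z
      obtain ⟨U, e', hxU, he'⟩ := TMul.exists_isGen hN (i.base z)
      have hb := BlowExcBundle.isFrame_of_isGen he' (i.base z) hxU
      let w : X.presheaf.stalk (i.base z) ≃ₗ[X.presheaf.stalk (i.base z)] N.presheaf.stalk (i.base z) :=
        LinearEquiv.ofBijective (LinearMap.toSpanSingleton _ _ (mgerm N hxU e'))
          ⟨fun r r' hr => congrFun (hb.1 (a₁ := fun _ : Fin 1 => r) (a₂ := fun _ : Fin 1 => r')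
            (by simpa using hr)) 0, fun m => by obtain ⟨c, hc⟩ := hb.2 m; exact ⟨c 0, by simpa using hc⟩⟩
      refine ExtShX.ext_subsingleton_of_regular (G.presheaf.stalk (i.base z)) (N.presheaf.stalk (i.base z)) [a, b]
        ((w.isWeaklyRegular_congr _).1 hab) (fun r hr' => Module.mem_annihilator.2 fun m => ?_) q (by simpa using hq)
      have hs : Function.Surjective ((DerSch.stalkFunctor X (i.base z)).map v').hom :=
        (ModuleCat.epi_iff_surjective _).1 inferInstance
      obtain ⟨p, rfl⟩ := hs m
      obtain ⟨c, rfl⟩ := (unit_bijective (i.base z)).2 p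
      change r • stalkHom v' (i.base z) (c • one₁ (i.base z)) = 0
      rw [stalkHom_smul, smul_comm, ← stalkHom_smul v' (i.base z) r, (hr r).2 (Ideal.subset_span hr'), smul_zero]
    · haveI := KFlat.subsingleton_stalk_push i (Coh.structureModule Y) hx
      refine ExtShX.ext_subsingleton_of_regular (G.presheaf.stalk x) (N.presheaf.stalk x) [1, 1] ?_
        (fun r hr' => Module.mem_annihilator.2 fun m => @Subsingleton.elim _ this _ _) q (by simpa using hq)
      exact ⟨fun j hj => by
        rcases j with _ | _ | j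
        · exact IsSMulRegular.one _
        · exact IsSMulRegular.one _
        · simp at hj⟩
  exact ModuleCat.isZero_of_iff_subsingleton.2 e.toLinearEquiv.toEquiv.subsingleton

end Scheme

end Groth.Agent.SerreCorr
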